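import Cfsg.Agent.H825.HT.HeFun

/-!
# S4933, the Held group, `p = 7` (helper825)

The character of degree 11900 as an integral combination of generalized characters (tables on 25 families, with the
adjoint Adams operations of helper806); it lies in the principal 7-block.
-/

set_option autoImplicit false
set_option maxRecDepth 100000

namespace Cfsg.Agent.H825.HT.He7

open Cfsg Cfsg.Spor Subgroup Cfsg.Agent.H316.HT Cfsg.Agent.H825.SB.He Cfsg.Agent.H825.HT Cfsg.Agent.H300.Cls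

theorem adj2 {v : List ℤ} (hv : GC ff v) (r : List ℤ) (h : chkAll 25 (fun t => decide ((sz.getD t 0 : ℤ) * r.getD t 0 =
      ((List.range 25).map fun i => if Q2.getD i 0 = t then (sz.getD i 0 : ℤ) * v.getD i 0 else 0).sum)) = true) :
    GC ff r := by
  obtain ⟨hfin, -⟩ := Cfsg.Agent.SporadicB.HeUpper.card_he_le
  have := Fintype.ofFinite Cfsg.Spor.He
  exact Cfsg.Agent.H806.SB.Adj.GC.adj ff_lt ff_sq sz ff_card ff_gal ff_cop hv r h

theorem adj7 {v : List ℤ} (hv : GC ff v) (r : List ℤ) (h : chkAll 25 (fun t => decide ((sz.getD t 0 : ℤ) * r.getD t 0 =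
      ((List.range 25).map fun i => if Q7.getD i 0 = t then (sz.getD i 0 : ℤ) * v.getD i 0 else 0).sum)) = true) :
    GC ff r := by
  obtain ⟨hfin, -⟩ := Cfsg.Agent.SporadicB.HeUpper.card_he_le
  have := Fintype.ofFinite Cfsg.Spor.He
  exact Cfsg.Agent.H806.SB.Adj.GC.adj ff_lt ff_seven sz ff_card ff_gal ff_cop hv r h

def u0 : List ℤ := [1, 1, 1, 1, 1, 1, 1, 1, 1, 1, 1, 1, 1, 1, 1, 1, 1, 1, 1, 1, 1, 1, 1, 1, 1]
theorem gu0 : GC ff u0 := gc_ext gc0 u0 (by decide +kernel)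
def u1 : List ℤ := [2058, 154, 42, 42, 0, 14, 18, 2, 8, 10, 0, 0, 0, 2, 4, 2, 0, 0, 2, 1, 0, 0, 0, 0, 0]
theorem gu1 : GC ff u1 := gc_ext gc1 u1 (by decide +kernel)
def u2 : List ℤ := [1275, 75, 27, 15, 0, 7, 3, 3, 0, 3, -6, 1, 1, -1, 0, 1, -2, -1, 0, 0, 1, 0, 0, 0, 0]
theorem gu2 : GC ff u2 := gc_ext gc2 u2 (by decide +kernel)
def u3 : List ℤ := [680, 56, 8, 14, -1, 0, 8, 0, 5, 2, 8, -6, 1, 0, 1, 0, 0, 1, -1, 0, 0, 0, -1, -1, -1]
theorem gu3 : GC ff u3 := gc_ext gc3 u3 (by decide +kernel)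
def u4 : List ℤ := [212416, 240, 224, 106, 22, 0, 0, 8, 16, 6, 22, 1, 8, 0, 0, 0, 2, 0, 1, 1, 1, 0, 2, 0, 1]
theorem gu4 : GC ff u4 := adj2 gu0 u4 (by decide +kernel)
def u5 : List ℤ := [93024001, 5761, 3073, 721, 49, 49, 1, 1, 1, 1, 0, 0, 0, 1, 1, 1, 0, 0, 1, 1, 0, 0, 1, 1, 0]
theorem gu5 : GC ff u5 := adj7 gu0 u5 (by decide +kernel)
def u6 : List ℤ := [2058, 2058, 2058, 42, 0, 154, 42, 42, 8, 42, 0, 0, 0, 2, 8, 10, 0, 0, 2, 1, 0, 0, 0, 0, 0]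
theorem gu6 : GC ff u6 := gu1.psi ff_lt ff_sq u6 (by decide +kernel)
def u7 : List ℤ := [11722368, 3360, 1344, 1092, 0, 0, 0, 16, 68, 12, 0, 0, 0, 0, 0, 0, 0, 0, 2, 1, 0, 0, 0, 0, 0]
theorem gu7 : GC ff u7 := adj2 gu1 u7 (by decide +kernel)
def u8 : List ℤ := [2116653, 10829, -147, 861, 0, 21, 141, -19, 28, 29, 0, 0, 0, 1, 4, -3, 0, 0, 1, 0, 0, 0, 0, 0,
  0]
theorem gu8 : GC ff u8 := gu1.alt ff_lt ff_sq u8 (by decide +kernel)
def u9 : List ℤ := [1275, 1275, 1275, 15, 0, 75, 27, 27, 0, 15, -6, 1, 1, 3, 0, 3, -6, 1, 0, 0, 1, -2, 0, 0, 0]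
theorem gu9 : GC ff u9 := gu2.psi ff_lt ff_sq u9 (by decide +kernel)
def u10 : List ℤ := [6936000, 1680, 672, 330, 0, 0, 0, -8, 0, 6, -48, 1, -6, 0, 0, 0, 0, 0, 0, 0, 1, 0, 0, 0, 0]
theorem gu10 : GC ff u10 := adj2 gu2 u10 (by decide +kernel)
def u11 : List ℤ := [45044475, -11445, -3045, 735, 0, 7, 3, 3, 0, 3, 0, 0, 0, -1, 0, 1, 0, 0, 0, 0, 0, 0, 0, 0, 0]
theorem gu11 : GC ff u11 := adj7 gu2 u11 (by decide +kernel)
def u12 : List ℤ := [812175, 2175, -273, 105, 0, -13, -9, -9, 0, -3, 21, 0, 0, -1, 0, -1, 5, 0, 0, 0, 0, 1, 0, 0,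
  0]
theorem gu12 : GC ff u12 := gu2.alt ff_lt ff_sq u12 (by decide +kernel)
def u13 : List ℤ := [680, 680, 680, 14, -1, 56, 8, 8, 5, 14, 8, -6, 1, 0, 5, 2, 8, 1, -1, 0, 0, 0, -1, -1, -1]
theorem gu13 : GC ff u13 := gu3.psi ff_lt ff_sq u13 (by decide +kernel)
def u14 : List ℤ := [2899520, 0, 448, 224, -22, 0, 0, 0, 20, 0, 8, -6, 8, 0, 0, 0, 0, 0, -1, 0, 0, 0, -2, 0, -1]
theorem gu14 : GC ff u14 := adj2 gu3 u14 (by decide +kernel)
def u15 : List ℤ := [113587880, 56, 3080, 14, -49, 0, 8, 0, 5, 2, 0, 0, 0, 0, 1, 0, 0, 0, -1, 0, 0, 0, -1, -1, 0]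
theorem gu15 : GC ff u15 := adj7 gu3 u15 (by decide +kernel)
def u16 : List ℤ := [230860, 1228, -308, 91, 1, -28, 28, -4, 10, -5, 28, 21, 0, 0, -2, -1, -4, 0, 1, 0, 0, 0, 1, 1,
  1]
theorem gu16 : GC ff u16 := gu3.alt ff_lt ff_sq u16 (by decide +kernel)
def u17 : List ℤ := [2623950, 11550, 1134, 630, 0, 98, 54, 6, 0, 30, 0, 0, 0, -2, 0, 2, 0, 0, 0, 0, 0, 0, 0, 0, 0]
theorem gu17 : GC ff u17 := gu1.mul ff_lt gu2 u17 (by decide +kernel)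
def u18 : List ℤ := [1399440, 8624, 336, 588, 0, 0, 144, 0, 40, 20, 0, 0, 0, 0, 4, 0, 0, 0, -2, 0, 0, 0, 0, 0, 0]
theorem gu18 : GC ff u18 := gu1.mul ff_lt gu3 u18 (by decide +kernel)
def u19 : List ℤ := [867000, 4200, 216, 210, 0, 0, 24, 0, 0, 6, -48, -6, 1, 0, 0, 0, 0, -1, 0, 0, 0, 0, 0, 0, 0]
theorem gu19 : GC ff u19 := gu2.mul ff_lt gu3 u19 (by decide +kernel)
def u20 : List ℤ := [212416, 212416, 212416, 106, 22, 240, 224, 224, 16, 106, 22, 1, 8, 8, 16, 6, 22, 8, 1, 1, 1,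
  2, 22, 2, 1]
theorem gu20 : GC ff u20 := gu4.psi ff_lt ff_sq u20 (by decide +kernel)
def u21 : List ℤ := [48193216, 0, 1344, 736, 64, 0, 0, 0, 16, 0, 64, 1, 8, 0, 0, 0, 0, 0, 1, 1, 1, 0, 0, 0, 1]
theorem gu21 : GC ff u21 := adj2 gu4 u21 (by decide +kernel)
def u22 : List ℤ := [812948416, 11760, 224, 826, 70, 0, 0, 8, 16, 6, 0, 0, 0, 0, 0, 0, 0, 0, 1, 1, 0, 0, 2, 0, 0]
theorem gu22 : GC ff u22 := adj7 gu4 u22 (by decide +kernel)
def u23 : List ℤ := [22560172320, -77408, -81120, 5565, 231, -120, -112, -80, 120, -35, 231, 0, 28, -4, -8, -3, -9,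
  -4, 0, 0, 0, -1, -9, -1, 0]
theorem gu23 : GC ff u23 := gu4.alt ff_lt ff_sq u23 (by decide +kernel)
def u24 : List ℤ := [93024001, 93024001, 93024001, 721, 49, 5761, 3073, 3073, 1, 721, 0, 0, 0, 1, 1, 1, 0, 0, 1, 1,
  0, 0, 49, 1, 0]
theorem gu24 : GC ff u24 := gu5.psi ff_lt ff_sq u24 (by decide +kernel)
def u25 : List ℤ := [2058, 2058, 2058, 42, 0, 2058, 2058, 2058, 8, 42, 0, 0, 0, 42, 8, 42, 0, 0, 2, 1, 0, 0, 0, 0,
  0]
theorem gu25 : GC ff u25 := gu6.psi ff_lt ff_sq u25 (by decide +kernel)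
def u26 : List ℤ := [2116653, 2116653, 2116653, 861, 0, 10829, -147, -147, 28, 861, 0, 0, 0, -19, 28, 29, 0, 0, 1,
  0, 0, 0, 0, 0, 0]
theorem gu26 : GC ff u26 := gu6.alt ff_lt ff_sq u26 (by decide +kernel)
def u27 : List ℤ := [245181888, 5040, 4704, 3906, 0, 0, 0, 8, 88, -18, 0, 0, 0, 0, 0, 0, 0, 0, 1, 0, 0, 0, 0, 0, 0]
theorem gu27 : GC ff u27 := adj2 gu8 u27 (by decide +kernel)
def u28 : List ℤ := [329813709225, 1959225, -368823, 5460, 0, -1003, 177, 177, 0, -48, 210, 0, 0, 5, 0, 2, 2, 0, 0,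
  0, 0, -2, 0, 0, 0]
theorem gu28 : GC ff u28 := gu12.alt ff_lt ff_sq u28 (by decide +kernel)

/-- the table of the character of degree 11900 -/
def th : List ℤ := [11900, 140, 28, 20, -7, 0, 4, 4, 0, -4, 0, -7, 0, 0, 0, 0, 0, 0, 0, 0, -1, 0, 1, 1, 0]

theorem gc_th : GC ff th := GC.lin ff_lt [
    (24628, u0), (-2569, u1), (-3234, u2), (-46182, u3), (-8420, u4), (-66898, u5), (5054, u6), (-10360, u7), (15789,
  u8), (33084, u9), (-22921, u10), (94436, u11), (49413, u12), (-1041, u13), (30781, u14), (-12197, u15), (-9512,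
  u16), (-49326, u17), (10169, u18), (-16849, u19), (-5995, u20), (-17143, u21), (81619, u22), (-4347, u23), (6,
  u24), (78, u25), (477, u26), (-7258, u27), (115, u28)]
    (List.forall_mem_cons.2 ⟨gu0, List.forall_mem_cons.2 ⟨gu1, List.forall_mem_cons.2 ⟨gu2, List.forall_mem_cons.2 ⟨gu3,
  List.forall_mem_cons.2 ⟨gu4, List.forall_mem_cons.2 ⟨gu5, List.forall_mem_cons.2 ⟨gu6, List.forall_mem_cons.2
  ⟨gu7, List.forall_mem_cons.2 ⟨gu8, List.forall_mem_cons.2 ⟨gu9, List.forall_mem_cons.2 ⟨gu10,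
  List.forall_mem_cons.2 ⟨gu11, List.forall_mem_cons.2 ⟨gu12, List.forall_mem_cons.2 ⟨gu13, List.forall_mem_cons.2
  ⟨gu14, List.forall_mem_cons.2 ⟨gu15, List.forall_mem_cons.2 ⟨gu16, List.forall_mem_cons.2 ⟨gu17,
  List.forall_mem_cons.2 ⟨gu18, List.forall_mem_cons.2 ⟨gu19, List.forall_mem_cons.2 ⟨gu20, List.forall_mem_cons.2
  ⟨gu21, List.forall_mem_cons.2 ⟨gu22, List.forall_mem_cons.2 ⟨gu23, List.forall_mem_cons.2 ⟨gu24,
  List.forall_mem_cons.2 ⟨gu25, List.forall_mem_cons.2 ⟨gu26, List.forall_mem_cons.2 ⟨gu27, List.forall_mem_cons.2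
  ⟨gu28, fun _ h => absurd h List.not_mem_nil⟩⟩⟩⟩⟩⟩⟩⟩⟩⟩⟩⟩⟩⟩⟩⟩⟩⟩⟩⟩⟩⟩⟩⟩⟩⟩⟩⟩⟩) th (by decide +kernel)

theorem irr_th : IsIrrCharacter Cfsg.Spor.He (tv ff th) := by
  obtain ⟨hfin, -⟩ := Cfsg.Agent.SporadicB.HeUpper.card_he_le
  have := Fintype.ofFinite Cfsg.Spor.He
  refine GC.irr gc_th X X_nc X_cov (fun i => 4030387200 / C33.getD i 0) X_card (fun _ _ => ff_conj)
    (fun i => F25.getD i 0) ff_X ?_ ?_
  · rw [Cfsg.Agent.KFacts.He.Classes.card_he]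
    decide +kernel
  · rw [ff_one]
    decide

/-- **(He, 7)** -/
theorem fact_seven (M : Ideal AlgInt) (hM : IsPModular 7 M) : ∃ χ : IrrCharacter Cfsg.Spor.He,
    χ ∈ principalBlock M Cfsg.Spor.He ∧ (charDegree (χ : Cfsg.Spor.He → ℂ)).factorization 7 = 1 := by
  have hd : (tv ff th) 1 = (11900 : ℤ) := by
    rw [tv, ff_one]
    rfl
  refine ⟨⟨_, irr_th⟩, ?_, ?_⟩
  · refine mem_of_table hM _ hd X X_cov (fun i => 4030387200 / C33.getD i 0) (fun i => th.getD (F25.getD i 0) 0)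
      (fun i => class_index (X_card i)) (fun i => ?_) ?_
    · show tv ff th (X i) = _
      rw [tv, ff_X]
    · decide +kernel
  · have h4 : charDegree (tv ff th) = 11900 := Cfsg.Agent.Blocks.Basic.charDegree_of_eq (n := 11900) (by rw [hd]; norm_num)
    show (charDegree (tv ff th)).factorization 7 = 1
    rw [h4]
    have h5 : (11900 : ℕ) = 7 ^ 1 * 1700 := by norm_num
    rw [h5, Nat.factorization_mul (by norm_num) (by norm_num), Nat.Prime.factorization_pow (by norm_num)]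
    simp [Nat.factorization_eq_zero_of_not_dvd (show ¬ 7 ∣ 1700 by norm_num)]

theorem rowIn_seven {S : Type} [Group S] (h : Cfsg.Spor.IsoHe S) : RowIn 7 S := by
  obtain ⟨e⟩ := h
  exact rowIn_of e fact_seven

end Cfsg.Agent.H825.HT.He7
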