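import Cfsg.Agent.H624.HT.RowOf
import Cfsg.Agent.H825.HT.HeSeven

/-!
# S4933, the rows `(He, 3)` and `(He, 7)` (helper825)
-/

set_option autoImplicit false

namespace Cfsg.Agent.H825.HT

open Cfsg Subgroup Cfsg.Agent.H316.HT

universe u

theorem rowOut_he' {S : Type u} [Group S] (h : Cfsg.Spor.IsoHe S) {p : ℕ} (hp : Odd p) : RowOut p S := by
  refine rowOut_of fun N _ e a k ha => ?_
  obtain ⟨e⟩ := e
  obtain ⟨f⟩ := h
  refine Cfsg.Agent.KFacts.He.Outer.inner_of_odd (n := p ^ k) ⟨e.trans f⟩ a (hp.pow) ?_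
  rw [ha]
  exact one_mem _

theorem row_of_fact {S : Type u} [Group S] {p : ℕ} [Fact p.Prime] (hp : Odd p) (h : Cfsg.Spor.IsoHe S)
    (hf : ∀ M : Ideal AlgInt, IsPModular p M → ∃ χ : IrrCharacter Cfsg.Spor.He, χ ∈ principalBlock M Cfsg.Spor.He ∧
      (charDegree (χ : Cfsg.Spor.He → ℂ)).factorization p = 1) : Row p S := by
  have h2 := rowOut_he' h hp
  obtain ⟨e⟩ := h
  obtain ⟨hfin, -⟩ := Cfsg.Agent.SporadicB.HeUpper.card_he_le
  have : Finite S := Finite.of_equiv _ e.symm.toEquiv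
  exact Cfsg.Agent.H624.HT.Row.of (rowIn_of e hf) h2

/-- **S4933, the row `(He, 3)`** -/
theorem row_he_three {S : Type u} [Group S] (h : Cfsg.Spor.IsoHe S) : Row 3 S := by
  have : Fact (Nat.Prime 3) := ⟨by norm_num⟩
  exact row_of_fact (by decide) h fact_three

/-- **S4933, the row `(He, 7)`** -/
theorem row_he_seven {S : Type u} [Group S] (h : Cfsg.Spor.IsoHe S) : Row 7 S := by
  have : Fact (Nat.Prime 7) := ⟨by norm_num⟩
  exact row_of_fact (by decide) h He7.fact_seven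

end Cfsg.Agent.H825.HT
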