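import Cfsg.Agent.H825.HT.HeSev
import Cfsg.Agent.H825.HT.Tools
import Cfsg.Agent.H825.SB.HeChar
import Cfsg.Agent.H806.SB.Adj

/-!
# The 25 rational families of classes of the Held group (helper825)

`ff` refines `fam` by the order of the element.
-/

set_option autoImplicit false
set_option maxRecDepth 100000

namespace Cfsg.Agent.H825.HT.He7

open Cfsg Cfsg.Spor Subgroup Cfsg.Agent.H825.SB.He Cfsg.Agent.H825.HT Cfsg.Agent.H300.Cls
open Cfsg.Spor.He (Gen)
open Cfsg.Agent.SporadicB.HePerm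
open Cfsg.Agent.FixBN.HeStab Cfsg.Agent.KFacts.He.Lv Cfsg.Agent.CpAutHe.Cnt
open Cfsg.Agent.H235.Ore.HeCert Cfsg.Agent.H235.Ore.He
open Cfsg.Agent.H713.Two.HeClasses (Nn Nn_conj Nn_wd)
open Cfsg.Agent.H153.Zeros.He17 (W17 o17)
open Cfsg.Agent.H19.Odd.HeCnt (XB XC)

/-- orders -/
def O33 : List ℕ := [17, 17, 1, 21, 21, 2, 2, 3, 3, 4, 4, 4, 6, 6, 12, 12, 5, 8, 10, 15, 14, 14, 14, 14, 28, 28, 7, 7, 7,
  7, 7, 21, 21]
/-- families of the seventh powers, orders divisible by 7 -/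
def J33 : List ℕ := [99, 99, 99, 3, 3, 99, 99, 99, 99, 99, 99, 99, 99, 99, 99, 99, 99, 99, 99, 99, 1, 1, 2, 2, 5, 5, 0, 0,
  0, 0, 0, 4, 4]
/-- the refined families -/
def F25 : List ℕ := [19, 19, 0, 20, 20, 1, 2, 3, 4, 5, 6, 7, 9, 22, 23, 15, 8, 13, 14, 18, 16, 16, 17, 17, 21, 21, 10, 10,
  11, 12, 12, 24, 24]
/-- representatives of the cyclic subgroups -/
def R33 : List ℕ := [0, 0, 2, 3, 3, 5, 6, 7, 8, 9, 10, 11, 12, 13, 14, 15, 16, 17, 18, 19, 20, 20, 22, 22, 24, 24, 26, 26,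
  28, 29, 29, 31, 31]

def S7 (x : Cfsg.Spor.He) (j : ℕ) : Prop :=
  j = 99 ∨ (j < 22 ∧ Nn c0P (x ^ 7) = T0.getD j 0 ∧ Nn c1P (x ^ 7) = T1.getD j 0)

theorem S7.dum (x : Cfsg.Spor.He) : S7 x 99 := Or.inl rfl

theorem S7.one {x : Cfsg.Spor.He} (h : orderOf x = 7) : S7 x 0 := by
  have h1 : x ^ 7 = 1 := by rw [← h, pow_orderOf_eq_one]
  have h2 : Row (1 : Cfsg.Spor.He) 0 := row_of_chk (w := []) w1
  exact Or.inr ⟨by norm_num, by rw [h1, h2.n0], by rw [h1, h2.n1]⟩

theorem S7.of {w : List Gen} {j : ℕ} (h : chk3 (pw w 7) j = true) : S7 (wd w) j := by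
  obtain ⟨h1, h2, h3, -⟩ := n_of_chk3 h
  rw [wd_pw] at h2 h3
  exact Or.inr ⟨h1, h2, h3⟩

theorem S7.inv {x : Cfsg.Spor.He} {j : ℕ} (h : S7 x j) : S7 x⁻¹ j := by
  rcases h with h | ⟨h1, h2, h3⟩
  · exact Or.inl h
  · refine Or.inr ⟨h1, ?_, ?_⟩
    · rw [inv_pow, Nn_inv (symm_of c0P_inv sym0), h2]
    · rw [inv_pow, Nn_inv (symm_of c1P_inv sym1), h3]

theorem S7.sq {x : Cfsg.Spor.He} {j : ℕ} (h : S7 x j) (hx : orderOf x = 21) : S7 (x ^ 2) j := by
  have h1 : (x ^ 2) ^ 7 = (x⁻¹) ^ 7 := by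
    have h2 : x ^ 21 = 1 := by rw [← hx, pow_orderOf_eq_one]
    rw [inv_pow, eq_inv_iff_mul_eq_one, ← pow_mul, ← pow_add]
    exact h2
  have h2 := h.inv
  unfold S7 at h2 ⊢
  rwa [h1]

theorem sevens (a b : Cfsg.Spor.He) : List.Forall₂ (fun p j => S7 p.1 j) (L a b) J33 := by
  have h21 := S7.of s21A
  unfold L J33
  exact .cons (.dum _) (.cons (.dum _) (.cons (.dum _) (.cons h21 (.cons (h21.sq o21A) (.cons (.dum _)
    (.cons (.dum _) (.cons (.dum _) (.cons (.dum _) (.cons (.dum _) (.cons (.dum _)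
    (.cons (.dum _) (.cons (.dum _) (.cons (.dum _) (.cons (.dum _)
    (.cons (.dum _) (.cons (.dum _) (.cons (.dum _) (.cons (.dum _)
    (.cons (.dum _) (.cons (S7.of s14A) (.cons (S7.of s14A).inv (.cons (S7.of s14C)
    (.cons (S7.of s14C).inv (.cons (S7.of s28A) (.cons (S7.of s28A).inv (.cons (.one o7A)
    (.cons (.one ((orderOf_inv _).trans o7A)) (.cons (.one o7C) (.cons (.one o7D)
    (.cons (.one ((orderOf_inv _).trans o7D))
    (.cons (S7.of s21C) (.cons (S7.of s21C).inv .nil))))))))))))))))))))))))))))))))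

theorem zp {x : Cfsg.Spor.He} (h : orderOf x = 21) : zpowers (x ^ 2) = zpowers x := by
  apply le_antisymm
  · rw [zpowers_le]
    exact pow_mem (mem_zpowers x) 2
  · rw [zpowers_le]
    have h1 : x = (x ^ 2) ^ 11 := by
      have h2 : x ^ 21 = 1 := by rw [← h, pow_orderOf_eq_one]
      rw [← pow_mul, show 2 * 11 = 21 + 1 from rfl, pow_succ, h2, one_mul]
    have h2 : (x ^ 2) ^ 11 ∈ zpowers (x ^ 2) := pow_mem (mem_zpowers _) 11
    rwa [← h1] at h2

theorem zpow_eq (a b : Cfsg.Spor.He) (hab : zpowers b = zpowers a) :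
    List.Forall₂ (fun p k => zpowers p.1 = zpowers ((L a b).getD k (1, 1)).1) (L a b) R33 := by
  have hL : ∀ k, ((L a b).getD k (1, 1)).1 = ((L a b).getD k (1, 1)).1 := fun _ => rfl
  have hi : ∀ x : Cfsg.Spor.He, zpowers x⁻¹ = zpowers x := fun x => zpowers_inv
  unfold L R33
  exact .cons rfl (.cons hab (.cons rfl (.cons rfl (.cons (zp o21A) (.cons rfl
    (.cons rfl (.cons rfl (.cons rfl (.cons rfl (.cons rfl
    (.cons rfl (.cons rfl (.cons rfl (.cons rfl
    (.cons rfl (.cons rfl (.cons rfl (.cons rfl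
    (.cons rfl (.cons rfl (.cons (hi _) (.cons rfl
    (.cons (hi _) (.cons rfl (.cons (hi _) (.cons rfl
    (.cons (hi _) (.cons rfl (.cons rfl (.cons (hi _)
    (.cons rfl (.cons (hi _) .nil))))))))))))))))))))))))))))))))

theorem exists_cop {x y : Cfsg.Spor.He} (h : zpowers x = zpowers y) :
    ∃ m, (Nat.card Cfsg.Spor.He).Coprime m ∧ x ^ m = y := by
  obtain ⟨hfin, -⟩ := Cfsg.Agent.SporadicB.HeUpper.card_he_le
  have h1 : y ∈ zpowers x := h ▸ mem_zpowers y
  classical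
  rw [mem_zpowers_iff_mem_range_orderOf, Finset.mem_image] at h1
  obtain ⟨k, hk, h2⟩ := h1
  have h3 : orderOf y = orderOf x := by rw [← Nat.card_zpowers, ← Nat.card_zpowers, h]
  have h4 : k.Coprime (orderOf x) := by
    have h5 : orderOf (x ^ k) = orderOf x / (orderOf x).gcd k := orderOf_pow x
    rw [h2, h3] at h5
    have h6 : 0 < orderOf x := orderOf_pos x
    have h7 : (orderOf x).gcd k ∣ orderOf x := Nat.gcd_dvd_left _ _
    have h8 : (orderOf x).gcd k = 1 := by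
      rcases h7 with ⟨c, hc⟩
      have h9 : 0 < (orderOf x).gcd k := Nat.gcd_pos_of_pos_left _ h6
      have h10 : orderOf x / (orderOf x).gcd k = c := Nat.div_eq_of_eq_mul_right h9 hc
      rw [h10] at h5
      have h11 : (orderOf x).gcd k * c = 1 * c := by rw [one_mul, ← hc, h5]
      exact Nat.eq_of_mul_eq_mul_right (h5 ▸ h6) h11
    exact Nat.Coprime.symm h8
  have : NeZero (Nat.card Cfsg.Spor.He) := ⟨Nat.card_pos.ne'⟩
  have h5 : orderOf x ∣ Nat.card Cfsg.Spor.He := orderOf_dvd_natCard x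
  obtain ⟨u, hu⟩ := ZMod.unitsMap_surjective h5 (ZMod.unitOfCoprime k h4)
  refine ⟨(u : ZMod (Nat.card Cfsg.Spor.He)).val, (ZMod.val_coe_unit_coprime u).symm, ?_⟩
  have h6 : (u : ZMod (Nat.card Cfsg.Spor.He)).val ≡ k [MOD orderOf x] := by
    rw [← ZMod.natCast_eq_natCast_iff, ZMod.natCast_val, ← ZMod.unitsMap_val h5, hu, ZMod.coe_unitOfCoprime]
  rw [← h2]
  exact pow_eq_pow_iff_modEq.2 h6

/-- **the classes of the Held group with their families** -/
theorem classesX : ∃ x : Fin 33 → Cfsg.Spor.He, (∀ i, Row (x i) (F33.getD i 0)) ∧ (∀ i, orderOf (x i) = O33.getD i 0) ∧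
    (∀ i, S7 (x i) (J33.getD i 0)) ∧
    (∀ i j : Fin 33, R33.getD i 0 = R33.getD j 0 → ∃ m, (Nat.card Cfsg.Spor.He).Coprime m ∧ x i ^ m = x j) ∧
    (∀ i j, IsConj (x i) (x j) → i = j) ∧ (∀ g, ∃ i, IsConj (x i) g) ∧
    ∀ i, Nat.card {u : Cfsg.Spor.He // IsConj (x i) u} = 4030387200 / C33.getD i 0 := by
  obtain ⟨hfin, -⟩ := Cfsg.Agent.SporadicB.HeUpper.card_he_le
  obtain ⟨a, b, ha, hb, ha1, hb1, hab⟩ := exists_pair
  have ora := row17 ha ha1
  have orb := row17 hb hb1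
  have hc := L_cent (cent_mem ha ha1) (cent_mem hb hb1)
  have hd := L_nodup (ord_mem ha ha1) (ord_mem hb hb1) hab
  have hV := L_inv (ord_mem ha ha1) (ord_mem hb hb1) hab
  have hz : zpowers b = zpowers a := by
    have h17 : ∀ c : Cfsg.Spor.He, c ∈ zpowers (wd W17) → c ≠ 1 → zpowers c = zpowers (wd W17) := by
      intro c hc hc1
      refine Subgroup.eq_of_le_of_card_ge (by rwa [zpowers_le]) ?_
      rw [Nat.card_zpowers, Nat.card_zpowers, o17, ord_mem hc hc1]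
    rw [h17 a ha ha1, h17 b hb hb1]
  have hlt : ∀ i : Fin 33, (i : ℕ) < (L a b).length := fun i => i.2
  have hn : ∀ i j : Fin 33, IsConj ((L a b)[(i : ℕ)]'(hlt i)).1 ((L a b)[(j : ℕ)]'(hlt j)).1 → i = j := by
    intro i j h
    have h1 : (i : ℕ) < ((L a b).map fun p => ConjClasses.mk p.1).length := by
      rw [List.length_map]
      exact hlt i
    have h2 : (j : ℕ) < ((L a b).map fun p => ConjClasses.mk p.1).length := by
      rw [List.length_map]
      exact hlt j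
    have h3 := (hd.getElem_inj_iff (hi := h1) (hj := h2)).1 (by
      rw [List.getElem_map, List.getElem_map]
      exact ConjClasses.mk_eq_mk_iff_isConj.2 h)
    exact Fin.ext h3
  have hrow : ∀ i : Fin 33, Row ((L a b)[(i : ℕ)]'(hlt i)).1 (F33.getD i 0) := by
    intro i
    have h1 := (List.forall₂_iff_get.1 (rows ora orb)).2 i (hlt i) i.2
    rw [List.get_eq_getElem, List.get_eq_getElem] at h1
    rw [List.getD_eq_getElem _ _ i.2]
    exact h1
  have hsev : ∀ i : Fin 33, S7 ((L a b)[(i : ℕ)]'(hlt i)).1 (J33.getD i 0) := by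
    intro i
    have h1 := (List.forall₂_iff_get.1 (sevens a b)).2 i (hlt i) i.2
    rw [List.get_eq_getElem, List.get_eq_getElem] at h1
    rw [List.getD_eq_getElem _ _ i.2]
    exact h1
  have hzp : ∀ i : Fin 33, zpowers ((L a b)[(i : ℕ)]'(hlt i)).1 =
      zpowers ((L a b).getD (R33.getD i 0) (1, 1)).1 := by
    intro i
    have h1 := (List.forall₂_iff_get.1 (zpow_eq a b hz)).2 i (hlt i) i.2
    rw [List.get_eq_getElem, List.get_eq_getElem] at h1
    rw [List.getD_eq_getElem R33 _ i.2]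
    exact h1
  have hord : ∀ i : Fin 33, orderOf ((L a b)[(i : ℕ)]'(hlt i)).1 = O33.getD i 0 := by
    intro i
    have h1 : (i : ℕ) < ((L a b).map (fun p => inv a p.1)).length := by
      rw [List.length_map]
      exact hlt i
    have h2 : (((L a b).map (fun p => inv a p.1))[(i : ℕ)]'h1).1 = orderOf ((L a b)[(i : ℕ)]'(hlt i)).1 := by
      rw [List.getElem_map]
      rfl
    have h3 : ∀ i : Fin 33, (V.getD i (0, 0, 0)).1 = O33.getD i 0 := by decide
    rw [← h2, ← h3 i, ← List.getD_eq_getElem _ (0, 0, 0) h1, hV]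
  have hcc : ∀ i : Fin 33, ((L a b)[(i : ℕ)]'(hlt i)).2 = C33.getD i 0 := by
    intro i
    have h1 : (i : ℕ) < ((L a b).map Prod.snd).length := by
      rw [List.length_map]
      exact hlt i
    rw [← map_snd a b, List.getD_eq_getElem _ _ h1, List.getElem_map]
  obtain ⟨h1, h2⟩ := Cfsg.Agent.H300.Cls.complete (fun i : Fin 33 => ((L a b)[(i : ℕ)]'(hlt i)).1)
    (fun i => C33.getD i 0) (fun i => by
      rw [← hcc i]
      exact hc _ (List.getElem_mem (hlt i))) hn (by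
      rw [Cfsg.Agent.KFacts.He.Classes.card_he]
      decide +kernel)
  refine ⟨_, hrow, hord, hsev, fun i j hij => exists_cop ?_, hn, h1, fun i => ?_⟩
  · rw [hzp i, hzp j, hij]
  · rw [h2 i, Cfsg.Agent.KFacts.He.Classes.card_he]

end Cfsg.Agent.H825.HT.He7
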