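import Cfsg.Agent.H825.HT.Tools
import Cfsg.Agent.H825.SB.HeChar
import Cfsg.Agent.KFacts.He.Outer

/-!
# S4933, the Held group, `p = 3` (helper825)

The irreducible character of degree 1275 lies in the principal 3-block.
-/

set_option autoImplicit false
set_option maxRecDepth 100000

namespace Cfsg.Agent.H825.HT

open Cfsg Subgroup Cfsg.Agent.H316.HT Cfsg.Agent.H825.SB.He Cfsg.Agent.H300.Cls

/-- the character of degree 1275 with its values -/
theorem exists_tab1275 : ∃ χ : IrrCharacter Cfsg.Spor.He, ∀ g, (χ : Cfsg.Spor.He → ℂ) g = tv fam v2 g := by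
  obtain ⟨χ, hχ⟩ := exists_1275
  refine ⟨⟨χ, hχ.irr⟩, fun g => ?_⟩
  have h : ∀ i < 22, 2058 * 850 * (v2 : List ℤ).getD i 0 =
      1275 * (-51450 + 875 * (T0.getD i 0 : ℤ) + 35 * (T1.getD i 0 : ℤ) + 7 * (T2.getD i 0 : ℤ)) := by decide
  have h1 := val_eq' hχ (by rfl) g
  have h2 := congrArg (fun z : ℤ => (z : ℂ)) (h _ (fam_lt g))
  have e0 : a1275 0 = 1 := rfl
  have e1 : a1275 1 = 1 / 85 := rfl
  have e2 : a1275 2 = -9 / 425 := rfl
  have e3 : a1275 3 = -1 / 34 := rfl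
  rw [e0, e1, e2, e3] at h1
  push_cast at h1 h2
  show χ g = _
  rw [tv]
  linear_combination -(1 / (2058 * 850)) * h2 + (1 / 2058) * h1

theorem class_index {x : Cfsg.Spor.He} {n : ℕ} (h : Nat.card {u : Cfsg.Spor.He // IsConj x u} = n) :
    (centralizer ({x} : Set Cfsg.Spor.He)).index = n := by
  rw [Cfsg.Agent.Blocks.Basic.index_centralizer_eq_ncard, ← h]
  rfl

/-- **(He, 3)** -/
theorem fact_three (M : Ideal AlgInt) (hM : IsPModular 3 M) : ∃ χ : IrrCharacter Cfsg.Spor.He,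
    χ ∈ principalBlock M Cfsg.Spor.He ∧ (charDegree (χ : Cfsg.Spor.He → ℂ)).factorization 3 = 1 := by
  obtain ⟨χ, hχ⟩ := exists_tab1275
  obtain ⟨x, h1, -, h2, h4⟩ := classes33
  have hd : (χ : Cfsg.Spor.He → ℂ) 1 = (1275 : ℤ) := by
    rw [hχ, tv, fam_one]
    rfl
  refine ⟨χ, ?_, ?_⟩
  · refine mem_of_table hM χ hd x h2 (fun i => 4030387200 / C33.getD i 0) (fun i => v2.getD (F33.getD i 0) 0)
      (fun i => class_index (h4 i)) (fun i => ?_) ?_
    · rw [hχ, tv, (h1 i).fam_eq]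
    · decide +kernel
  · rw [Cfsg.Agent.Blocks.Basic.charDegree_of_eq (n := 1275) (by rw [hd]; norm_num)]
    have h5 : (1275 : ℕ) = 3 ^ 1 * 425 := by norm_num
    rw [h5, Nat.factorization_mul (by norm_num) (by norm_num), Nat.Prime.factorization_pow (by norm_num)]
    simp [Nat.factorization_eq_zero_of_not_dvd (show ¬ 3 ∣ 425 by norm_num)]

theorem rowIn_three {S : Type} [Group S] (h : Cfsg.Spor.IsoHe S) : RowIn 3 S := by
  obtain ⟨e⟩ := h
  exact rowIn_of e fact_three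

theorem rowOut_he {S : Type} [Group S] (h : Cfsg.Spor.IsoHe S) {p : ℕ} (hp : Odd p) : RowOut p S := by
  refine rowOut_of fun N _ e a k ha => ?_
  obtain ⟨e⟩ := e
  obtain ⟨f⟩ := h
  refine Cfsg.Agent.KFacts.He.Outer.inner_of_odd (n := p ^ k) ⟨e.trans f⟩ a (hp.pow) ?_
  rw [ha]
  exact one_mem _

end Cfsg.Agent.H825.HT
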