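import Cfsg.Agent.H825.HT.HeFam
import Cfsg.Agent.H825.HT.HeThree

/-!
# The function of the 25 families of the Held group (helper825)
-/

set_option autoImplicit false
set_option maxRecDepth 100000

namespace Cfsg.Agent.H825.HT.He7

open Cfsg Cfsg.Spor Subgroup Cfsg.Agent.H825.SB.He Cfsg.Agent.H825.HT Cfsg.Agent.H300.Cls
open Cfsg.Agent.SporadicB.HePerm
open Cfsg.Agent.H235.Ore.HeCert Cfsg.Agent.H235.Ore.He
open Cfsg.Agent.H713.Two.HeClasses (Nn Nn_conj Nn_wd)

/-- representatives -/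
noncomputable def X : Fin 33 → Cfsg.Spor.He := Classical.choose classesX

theorem X_row (i : Fin 33) : Row (X i) (F33.getD i 0) := (Classical.choose_spec classesX).1 i
theorem X_ord (i : Fin 33) : orderOf (X i) = O33.getD i 0 := (Classical.choose_spec classesX).2.1 i
theorem X_sev (i : Fin 33) : S7 (X i) (J33.getD i 0) := (Classical.choose_spec classesX).2.2.1 i
theorem X_gal (i j : Fin 33) (h : R33.getD i 0 = R33.getD j 0) :
    ∃ m, (Nat.card Cfsg.Spor.He).Coprime m ∧ X i ^ m = X j := (Classical.choose_spec classesX).2.2.2.1 i j h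
theorem X_nc (i j : Fin 33) (h : IsConj (X i) (X j)) : i = j := (Classical.choose_spec classesX).2.2.2.2.1 i j h
theorem X_cov (g : Cfsg.Spor.He) : ∃ i, IsConj (X i) g := (Classical.choose_spec classesX).2.2.2.2.2.1 g
theorem X_card (i : Fin 33) : Nat.card {u : Cfsg.Spor.He // IsConj (X i) u} = 4030387200 / C33.getD i 0 :=
  (Classical.choose_spec classesX).2.2.2.2.2.2 i

/-- refinement by the order -/
def mk (a o : ℕ) : ℕ := if a = 4 then (if o = 3 then 4 else if o = 6 then 22 else if o = 12 then 23 else 24) else a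

/-- the family -/
noncomputable def ff (g : Cfsg.Spor.He) : ℕ := mk (fam g) (orderOf g)

theorem ff_conj {x y : Cfsg.Spor.He} (h : IsConj x y) : ff x = ff y := by
  rw [ff, ff, fam_conj h, ord_conj h]

theorem mk_X : ∀ i : Fin 33, mk (F33.getD i 0) (O33.getD i 0) = F25.getD i 0 := by decide

theorem ff_X (i : Fin 33) : ff (X i) = F25.getD i 0 := by
  rw [ff, (X_row i).fam_eq, X_ord i, mk_X]

theorem ff_one : ff 1 = 0 := by
  rw [ff, fam_one]
  rfl

theorem F25_lt : ∀ i : Fin 33, F25.getD i 0 < 25 := by decide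

theorem ff_lt (g : Cfsg.Spor.He) : ff g < 25 := by
  obtain ⟨i, hi⟩ := X_cov g
  rw [← ff_conj hi, ff_X]
  exact F25_lt i

/-- squares -/
def Q2 : List ℕ := [0, 0, 0, 3, 4, 1, 2, 2, 8, 3, 10, 11, 12, 7, 8, 9, 10, 12, 18, 19, 20, 16, 4, 22, 24]
/-- seventh powers -/
def Q7 : List ℕ := [0, 1, 2, 3, 4, 5, 6, 7, 8, 9, 0, 0, 0, 13, 14, 15, 1, 2, 18, 19, 3, 5, 22, 23, 4]

theorem sq_tab : ∀ i : Fin 33, mk (P2.getD (F33.getD i 0) 0) (O33.getD i 0 / (O33.getD i 0).gcd 2) =
    Q2.getD (F25.getD i 0) 0 := by decide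

theorem ff_sq (g : Cfsg.Spor.He) : ff (g ^ 2) = Q2.getD (ff g) 0 := by
  obtain ⟨hfin, -⟩ := Cfsg.Agent.SporadicB.HeUpper.card_he_le
  obtain ⟨i, hi⟩ := X_cov g
  rw [← ff_conj hi, ff_X, ← ff_conj (hi.pow 2), ff, fam_sq, (X_row i).fam_eq, orderOf_pow, X_ord i, sq_tab]

/-! ### Powers prime to the order of the group -/

theorem fix_pow {x : Cfsg.Spor.He} {i : Fin 2058} (h : phi x i = i) (k : ℕ) : phi (x ^ k) i = i := by
  induction k with
  | zero => rw [pow_zero, map_one, Equiv.Perm.one_apply]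
  | succ k ih => rw [pow_succ, map_mul, Equiv.Perm.mul_apply, h, ih]

theorem Nn_pow {g : Cfsg.Spor.He} {m : ℕ} (h : (orderOf g).Coprime m) : Nn c0P (g ^ m) = Nn c0P g := by
  unfold Nn
  refine Nat.card_congr (Equiv.subtypeEquivRight fun i => ?_)
  rw [c0P_iff, c0P_iff]
  constructor
  · intro h1
    obtain ⟨l, hl⟩ := exists_pow_eq_self_of_coprime (x := g) (n := m) h.symm
    have h2 := fix_pow h1.symm l
    rw [hl] at h2
    exact h2.symm
  · intro h1
    exact (fix_pow h1.symm m).symm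

/-- the key -/
noncomputable def key (g : Cfsg.Spor.He) : ℕ × ℕ × ℕ × ℕ :=
  (orderOf g, (centralizer ({g} : Set Cfsg.Spor.He)).index, Nn c0P g, if orderOf g = 21 then Nn c0P (g ^ 7) else 0)

theorem key_conj {x y : Cfsg.Spor.He} (h : IsConj x y) : key x = key y := by
  rw [key, key, ord_conj h, Cfsg.Agent.Blocks.Basic.index_centralizer_isConj h, Nn_conj c0P_inv h,
    Nn_conj c0P_inv (h.pow 7)]

def K33 (i : ℕ) : ℕ × ℕ × ℕ × ℕ := (O33.getD i 0, 4030387200 / C33.getD i 0, T0.getD (F33.getD i 0) 0,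
  if O33.getD i 0 = 21 then T0.getD (J33.getD i 0) 0 else 0)

theorem J_ne : ∀ i : Fin 33, 7 ∣ O33.getD i 0 → J33.getD i 0 ≠ 99 := by decide

theorem key_X (i : Fin 33) : key (X i) = K33 i := by
  have h1 : (centralizer ({X i} : Set Cfsg.Spor.He)).index = 4030387200 / C33.getD i 0 := class_index (X_card i)
  rw [key, K33, X_ord i, h1, (X_row i).n0]
  by_cases h2 : O33.getD i 0 = 21
  · rw [if_pos h2, if_pos h2]
    rcases X_sev i with h3 | ⟨-, h3, -⟩
    · exact absurd h3 (J_ne i (by rw [h2]; norm_num))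
    · rw [h3]
  · rw [if_neg h2, if_neg h2]

theorem K_inj : ∀ i j : Fin 33, K33 i = K33 j → F25.getD i 0 = F25.getD j 0 := by decide +kernel

theorem ff_cop (m : ℕ) (hm : (Nat.card Cfsg.Spor.He).Coprime m) (g : Cfsg.Spor.He) : ff (g ^ m) = ff g := by
  obtain ⟨hfin, -⟩ := Cfsg.Agent.SporadicB.HeUpper.card_he_le
  have h1 : (orderOf g).Coprime m := Nat.Coprime.coprime_dvd_left (orderOf_dvd_natCard g) hm
  have h7 : (orderOf (g ^ 7)).Coprime m := Nat.Coprime.coprime_dvd_left (orderOf_dvd_natCard (g ^ 7)) hm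
  have h2 : key (g ^ m) = key g := by
    rw [key, key, Nat.Coprime.orderOf_pow h1, Cfsg.Agent.H300.Cls.centralizer_pow h1, Nn_pow h1, ← pow_mul,
      mul_comm m 7, pow_mul, Nn_pow h7]
  obtain ⟨i, hi⟩ := X_cov g
  obtain ⟨j, hj⟩ := X_cov (g ^ m)
  rw [← ff_conj hi, ← ff_conj hj, ff_X, ff_X]
  apply K_inj
  rw [← key_X, ← key_X, key_conj hi, key_conj hj, h2]

theorem ff_gal (y y' : Cfsg.Spor.He) (h : ff y = ff y') :
    ∃ m, (Nat.card Cfsg.Spor.He).Coprime m ∧ IsConj (y ^ m) y' := by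
  have h1 : ∀ i j : Fin 33, F25.getD i 0 = F25.getD j 0 → R33.getD i 0 = R33.getD j 0 := by decide +kernel
  obtain ⟨i, hi⟩ := X_cov y
  obtain ⟨j, hj⟩ := X_cov y'
  rw [← ff_conj hi, ← ff_conj hj, ff_X, ff_X] at h
  obtain ⟨m, hm, h2⟩ := X_gal i j (h1 i j h)
  exact ⟨m, hm, (hi.pow m).symm.trans (h2 ▸ hj)⟩

/-! ### Seventh powers -/

theorem sev_tab : ∀ i : Fin 33, 7 ∣ O33.getD i 0 → mk (J33.getD i 0) (O33.getD i 0 / (O33.getD i 0).gcd 7) =
    Q7.getD (F25.getD i 0) 0 := by decide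

theorem sev_tab' : ∀ i : Fin 33, ¬ 7 ∣ O33.getD i 0 → F25.getD i 0 = Q7.getD (F25.getD i 0) 0 ∧
    2047 % (O33.getD i 0) = 7 % (O33.getD i 0) := by decide

theorem ff_seven (g : Cfsg.Spor.He) : ff (g ^ 7) = Q7.getD (ff g) 0 := by
  obtain ⟨hfin, -⟩ := Cfsg.Agent.SporadicB.HeUpper.card_he_le
  obtain ⟨i, hi⟩ := X_cov g
  rw [← ff_conj hi, ff_X, ← ff_conj (hi.pow 7)]
  by_cases h : 7 ∣ O33.getD i 0
  · rcases X_sev i with h3 | ⟨h4, -, h3⟩
    · exact absurd h3 (J_ne i h)
    · have h5 : fam (X i ^ 7) = J33.getD i 0 := by rw [fam, h3, idx _ h4]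
      rw [ff, h5, orderOf_pow, X_ord i, sev_tab i h]
  · obtain ⟨h1, h2⟩ := sev_tab' i h
    have h3 : X i ^ 7 = X i ^ 2047 := by
      rw [pow_eq_pow_iff_modEq, X_ord i]
      exact h2.symm
    rw [h3, ff_cop 2047 (by rw [Cfsg.Agent.KFacts.He.Classes.card_he]; decide +kernel), ff_X]
    exact h1

/-! ### The sizes -/

/-- the sizes of the families -/
def sz : List ℕ := [1, 24990, 187425, 533120, 7996800, 5997600, 10495800, 31487400, 13434624, 55977600, 6854400, 3916800,
  82252800, 251899200, 201519360, 335865600, 143942400, 575769600, 268692480, 474163200, 383846400, 287884800,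
  167932800, 335865600, 383846400]

theorem sz_tab : ∀ i : Fin 25, ∑ j : Fin 33, (4030387200 / C33.getD j 0) * (if F25.getD j 0 = i then 1 else 0) =
    sz.getD i 0 := by decide +kernel

theorem ff_card [Fintype Cfsg.Spor.He] (i : ℕ) :
    (Finset.univ.filter fun g : Cfsg.Spor.He => ff g = i).card = sz.getD i 0 := by
  classical
  by_cases hi : i < 25
  · have h1 := sum_classes X X_nc X_cov (fun g : Cfsg.Spor.He => if ff g = i then 1 else 0) (fun x y h => by
      rw [ff_conj h])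
    rw [Finset.card_filter, h1]
    have h2 : ∀ j : Fin 33, Nat.card {u : Cfsg.Spor.He // IsConj (X j) u} • (if ff (X j) = i then 1 else 0) =
        (4030387200 / C33.getD j 0) * (if F25.getD j 0 = i then 1 else 0) := by
      intro j
      rw [X_card, ff_X, smul_eq_mul]
    rw [Finset.sum_congr rfl fun j _ => h2 j]
    exact sz_tab ⟨i, hi⟩
  · have h1 : (Finset.univ.filter fun g : Cfsg.Spor.He => ff g = i) = ∅ := by
      rw [Finset.filter_eq_empty_iff]
      intro g _ h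
      exact hi (h ▸ ff_lt g)
    rw [h1, Finset.card_empty, List.getD_eq_default]
    exact not_lt.1 hi

/-! ### Generalized characters -/

/-- extension of a table on 22 families -/
def ext (v : List ℤ) : List ℤ := (List.range 22).map (fun i => v.getD i 0) ++ [v.getD 4 0, v.getD 4 0, v.getD 4 0]

theorem ext_getD (v : List ℤ) (a o : ℕ) (h : a < 22) : (ext v).getD (mk a o) 0 = v.getD a 0 := by
  have h1 : ∀ o, (ext v).getD (mk 4 o) 0 = v.getD 4 0 := by
    intro o
    unfold mk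
    split_ifs <;> rfl
  by_cases h2 : a = 4
  · subst h2
    exact h1 o
  · have h3 : mk a o = a := by
      unfold mk
      rw [if_neg h2]
    rw [h3]
    interval_cases a <;> rfl

theorem gc_ext {v : List ℤ} (h : GC fam v) (r : List ℤ) (hr : ext v = r) : GC ff r := by
  subst hr
  refine GC.of h fun g => ?_
  rw [tv, tv, ff, ext_getD v _ _ (fam_lt g)]

end Cfsg.Agent.H825.HT.He7
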