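import Cfsg.Agent.H825.SB.HeTabA

/-!
# Seventh powers in the Held group (helper825)
-/

set_option autoImplicit false
set_option maxRecDepth 100000

namespace Cfsg.Agent.H825.HT

open Cfsg Cfsg.Spor Subgroup Cfsg.Agent.H825.SB.He
open Cfsg.Spor.He (Gen)
open Cfsg.Agent.SporadicB.HePerm
open Cfsg.Agent.FixBN.HeStab Cfsg.Agent.KFacts.He.Lv Cfsg.Agent.CpAutHe.Cnt
open Cfsg.Agent.H235.Ore.HeCert Cfsg.Agent.H235.Ore.He

theorem s14A : chk3 (pw x14A 7) 1 = true := by decide +kernel
theorem s14C : chk3 (pw x14C 7) 2 = true := by decide +kernel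
theorem s28A : chk3 (pw x28A 7) 5 = true := by decide +kernel
theorem s21A : chk3 (pw x21A 7) 3 = true := by decide +kernel
theorem s21C : chk3 (pw x21C 7) 4 = true := by decide +kernel

end Cfsg.Agent.H825.HT
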